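import Cfsg.Agent.H643.Sd.Def
import Cfsg.Agent.Schreier.RuSyl
import Cfsg.Agent.RuLat.Main

/-!
# S4579: the Rudvalis group (a Sylow 2-subgroup is generated by three involutions, `Schreier.RuSyl`)
-/

set_option autoImplicit false

namespace Cfsg.Agent.H96.Sd

open Subgroup Cfsg.Agent.H643.Sd Cfsg.Agent.SporadicB

universe u

/-- a group generated by elements of square one -/
theorem lin2_of_gen {G : Type*} [Group G] {T : Subgroup G} {S : Set G} (hT : T = closure S)
    (hS : ∀ x ∈ S, x * x = 1) : Lin2 T := by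
  intro f x
  have hsub : S ⊆ T := by rw [hT]; exact subset_closure
  let F : T →* ℂˣ := (powMonoidHom 2).comp f
  have h1 : T ≤ F.ker.map T.subtype := by
    conv_lhs => rw [hT]
    rw [closure_le]
    intro y hy
    refine ⟨⟨y, hsub hy⟩, ?_, rfl⟩
    show F ⟨y, hsub hy⟩ = 1
    show f ⟨y, hsub hy⟩ ^ 2 = 1
    rw [← map_pow, pow_two]
    have h2 : (⟨y, hsub hy⟩ : T) * ⟨y, hsub hy⟩ = 1 := Subtype.ext (hS y hy)
    rw [h2, map_one]
  obtain ⟨y, hy, he⟩ := h1 x.2
  have h2 : y = x := Subtype.ext he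
  rw [h2] at hy
  exact hy

theorem elem_of_odd_index_two {G : Type*} [Group G] [Finite G] {T : Subgroup G} (hT : IsPGroup 2 T)
    (ho : ¬ 2 ∣ T.index) (h : Lin2 T) : Elem G := by
  intro P f x
  have h2 : Fact (Nat.Prime 2) := ⟨Nat.prime_two⟩
  obtain ⟨Q, hQ⟩ : ∃ Q : Sylow 2 G, (Q : Subgroup G) = T := ⟨hT.toSylow ho, IsPGroup.toSylow_coe hT ho⟩
  subst hQ
  let e : (Q : Subgroup G) ≃* (P : Subgroup G) := Sylow.equiv Q P
  have h3 := h (f.comp e.toMonoidHom) (e.symm x)
  have h4 : (f.comp e.toMonoidHom) (e.symm x) = f x := by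
    show f (e (e.symm x)) = f x
    rw [MulEquiv.apply_symm_apply]
  rwa [h4] at h3

theorem elem_congr {G H : Type*} [Group G] [Group H] (e : G ≃* H) (h : Elem H) : Elem G := by
  intro P f x
  have hc : ∀ K : Subgroup H, IsPGroup 2 K → (P : Subgroup G).map e.toMonoidHom ≤ K →
      K = (P : Subgroup G).map e.toMonoidHom := by
    intro K hK hle
    have h1 : (P : Subgroup G) ≤ K.comap e.toMonoidHom := map_le_iff_le_comap.1 hle
    have h2 : IsPGroup 2 ↥(K.comap e.toMonoidHom) := hK.comap_of_injective _ e.injective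
    rw [← P.3 h2 h1, map_comap_eq_self_of_surjective e.surjective]
  let Q : Sylow 2 H := ⟨(P : Subgroup G).map e.toMonoidHom, P.2.map _, fun hK hle => hc _ hK hle⟩
  let e' : (P : Subgroup G) ≃* (Q : Subgroup H) := (P : Subgroup G).equivMapOfInjective e.toMonoidHom e.injective
  have h3 := h Q (f.comp e'.symm.toMonoidHom) (e' x)
  have h4 : (f.comp e'.symm.toMonoidHom) (e' x) = f x := by
    show f (e'.symm (e' x)) = f x
    rw [MulEquiv.symm_apply_apply]
  rwa [h4] at h3

theorem elem_ruH [Finite RuOrder.H] : Elem RuOrder.H := by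
  have h2 : Fact (Nat.Prime 2) := ⟨Nat.prime_two⟩
  refine elem_of_odd_index_two (T := Schreier.RuSyl.T) (IsPGroup.of_card Schreier.RuSyl.card_T) ?_
    (lin2_of_gen Schreier.RuSyl.T_eq ?_)
  · have h1 := Schreier.RuSyl.T.card_mul_index
    rw [Schreier.RuSyl.card_T, RuOrder.card_H] at h1
    omega
  · intro x hx
    simp only [List.mem_cons, List.not_mem_nil, or_false] at hx
    rcases hx with rfl | rfl | rfl <;> exact Schreier.RuSyl.sq_rel (by norm_num)

/-- **The Rudvalis group.** -/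
theorem elem_ru {G : Type u} [Group G] [Finite G] (h : Cfsg.Spor.IsoRu G) : Elem G := by
  obtain ⟨e⟩ := h
  have e' : G ≃* RuOrder.H := e.trans RuLat.Main.equiv
  have : Finite RuOrder.H := Finite.of_equiv G e'.toEquiv
  exact elem_congr e' elem_ruH

end Cfsg.Agent.H96.Sd
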