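import Cfsg.Agent.H643.Sd.Def
import Cfsg.Agent.H96.Sd.Ru
import Cfsg.Agent.H845.CopLy
import Cfsg.Agent.SporRec.LyFiveCov
import Cfsg.Agent.S4623
import Mathlib.GroupTheory.Transfer

/-!
# S4579: the Lyons group (`C(t) = 2.A_11` has odd index)
-/

set_option autoImplicit false

namespace Cfsg.Agent.H96.Sd

open Subgroup Cfsg.Agent.H643.Sd Cfsg.Agent.SporRec.TwoAn

universe u

/-- subgroups of odd index -/
theorem elem_of_odd {G : Type*} [Group G] [Finite G] {H : Subgroup G} (ho : ¬ 2 ∣ H.index) (h : Elem H) : Elem G := by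
  have h2 : Fact (Nat.Prime 2) := ⟨Nat.prime_two⟩
  obtain ⟨P⟩ : Nonempty (Sylow 2 H) := inferInstance
  have hi : ¬ 2 ∣ ((P : Subgroup H).map H.subtype).index := by
    rw [index_map_subtype]
    exact Nat.Prime.not_dvd_mul Nat.prime_two P.not_dvd_index ho
  refine elem_of_odd_index_two (P.2.map _) hi ?_
  intro f x
  let e : (P : Subgroup H) ≃* (P : Subgroup H).map H.subtype := (P : Subgroup H).equivMapOfInjective _ H.subtype_injective
  have h3 := h P (f.comp e.toMonoidHom) (e.symm x)
  have h4 : (f.comp e.toMonoidHom) (e.symm x) = f x := by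
    show f (e (e.symm x)) = f x
    rw [MulEquiv.apply_symm_apply]
  rwa [h4] at h3

/-- perfect central extensions -/
theorem elem_of_perfect {G : Type*} [Group G] [Finite G] {Z : Subgroup G} [Z.Normal] (hG : commutator G = ⊤)
    (hZ : Z ≤ center G) (h : Elem (G ⧸ Z)) : Elem G := by
  intro P f x
  have h2 : Fact (Nat.Prime 2) := ⟨Nat.prime_two⟩
  have hz : ∀ z : (P : Subgroup G), (z : G) ∈ Z → f z = 1 := by
    intro z hz
    have hc : (z : G) ∈ center G := hZ hz
    have key : ∀ (k : ℕ) (g₀ : G), g₀⁻¹ * (z : G) ^ k * g₀ ∈ (P : Subgroup G) → g₀⁻¹ * (z : G) ^ k * g₀ = (z : G) ^ k := by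
      intro k g₀ _
      have h1 : (z : G) ^ k ∈ center G := pow_mem hc k
      rw [mul_assoc, ← mem_center_iff.1 h1 g₀, inv_mul_cancel_left]
    have h3 := MonoidHom.transfer_eq_pow f (z : G) key
    have h4 : MonoidHom.transfer f (z : G) = 1 := by
      have h5 : (z : G) ∈ commutator G := by rw [hG]; exact mem_top _
      exact Abelianization.commutator_subset_ker (MonoidHom.transfer f) h5
    rw [h4] at h3
    have h6 : f z ^ (P : Subgroup G).index = 1 := by
      rw [← map_pow, h3]
      congr 1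
    obtain ⟨n, hn⟩ := P.2 z
    have h7 : f z ^ (2 ^ n) = 1 := by rw [← map_pow, hn, map_one]
    have h8 : orderOf (f z) ∣ Nat.gcd (P : Subgroup G).index (2 ^ n) :=
      Nat.dvd_gcd (orderOf_dvd_of_pow_eq_one h6) (orderOf_dvd_of_pow_eq_one h7)
    have h9 : Nat.Coprime (P : Subgroup G).index (2 ^ n) :=
      ((Nat.Prime.coprime_iff_not_dvd Nat.prime_two).2 P.not_dvd_index).symm.pow_right n
    rw [h9] at h8
    exact orderOf_eq_one_iff.1 (Nat.dvd_one.1 h8)
  let π := QuotientGroup.mk' Z
  have hs : Function.Surjective π := QuotientGroup.mk'_surjective Z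
  let Q : Sylow 2 (G ⧸ Z) := P.mapSurjective hs
  have hQ : (Q : Subgroup (G ⧸ Z)) = (P : Subgroup G).map π := Sylow.coe_mapSurjective hs P
  let p : (P : Subgroup G) →* (P : Subgroup G).map π := π.subgroupMap (P : Subgroup G)
  have hp : Function.Surjective p := π.subgroupMap_surjective _
  have hk : ∀ y, p y = 1 → f y = 1 := by
    intro y hy
    apply hz
    have h5 : π (y : G) = 1 := congrArg Subtype.val hy
    exact (QuotientGroup.eq_one_iff _).1 h5
  let f' : (P : Subgroup G).map π →* ℂˣ := p.liftOfSurjective hp ⟨f, fun y hy => hk y hy⟩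
  have hf' : f' (p x) = f x := MonoidHom.liftOfRightInverse_comp_apply _ _ _ ⟨f, fun y hy => hk y hy⟩ x
  have h5 := h Q ((f'.comp (MulEquiv.subgroupCongr hQ).toMonoidHom)) ((MulEquiv.subgroupCongr hQ).symm (p x))
  have h6 : (f'.comp (MulEquiv.subgroupCongr hQ).toMonoidHom) ((MulEquiv.subgroupCongr hQ).symm (p x)) = f x := hf'
  rwa [h6] at h5

/-- alternating groups -/
theorem elem_alt (n : ℕ) : Elem (alternatingGroup (Fin n)) := by
  intro Q f x
  have h2 : Fact (Nat.Prime 2) := ⟨Nat.prime_two⟩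
  obtain ⟨P⟩ : Nonempty (Sylow 2 (Equiv.Perm (Fin n))) := inferInstance
  have h := (S4623.result 2 n P Q).2 x
  rw [← map_pow]
  exact Abelianization.commutator_subset_ker f h

/-- the double covers of the alternating groups -/
theorem elem_cover {n : ℕ} (hn : 5 ≤ n) {C : Type*} [Group C] [Finite C] (K : Cover (Fin n) C) : Elem C := by
  refine elem_of_perfect (Z := K.π.ker) (Cfsg.Agent.SporRec.LyFiveCov.commutator_eq_top K (by simpa using hn)) ?_ ?_
  · intro x hx
    rw [mem_center_iff]
    intro g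
    rcases (K.ker x).1 hx with h | h
    · rw [h, mul_one, one_mul]
    · rw [h, K.z_comm]
  · refine elem_congr ((QuotientGroup.quotientKerEquivRange K.π).trans (MulEquiv.subgroupCongr K.range_eq)) (elem_alt n)

/-- **The Lyons group.** -/
theorem elem_ly {G : Type u} [Group G] [Finite G] (h : Cfsg.Spor.IsoLy G) : Elem G := by
  obtain ⟨-, -, hN, ⟨L⟩⟩ := TypeM.FactsLy.facts h
  refine elem_of_odd (H := centralizer ({L.t} : Set G)) ?_ (elem_cover (by norm_num) L.K)
  have h1 := Cfsg.Agent.H845.CopLy.card_cent L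
  have h2 := (centralizer ({L.t} : Set G)).card_mul_index
  rw [h1, hN] at h2
  have h3 : (centralizer ({L.t} : Set G)).index = 1296826875 := by omega
  rw [h3]
  norm_num

end Cfsg.Agent.H96.Sd
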